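import Mathlib

set_option autoImplicit false
universe u u₁ v₂ u₂
open CategoryTheory CategoryTheory.Limits Opposite CategoryTheory.Functor

namespace Groth.Agent.Lib.Helper5.FPExt

variable {C : Type u₁} [Category.{u} C] {P : ObjectProperty C}

/-- every object is a small directed colimit of objects with `P` -/
def HasPres (P : ObjectProperty C) : Prop :=
  ∀ X : C, ∃ (J : Type u) (_ : Preorder J) (_ : IsDirected J (· ≤ ·)) (_ : Nonempty J),
    Nonempty (P.ColimitOfShape J X)

theorem final_toCostructuredArrow (hP : P ≤ ObjectProperty.isFinitelyPresentable.{u} C)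
    {J : Type u} [SmallCategory J] [IsFiltered J] {X : C} (p : P.ColimitOfShape J X) :
    p.toCostructuredArrow.Final := by
  rw [Functor.final_iff_of_isFiltered]
  refine ⟨fun f => ?_, fun {f j} g₁ g₂ => ?_⟩
  · haveI : IsFinitelyPresentable.{u} (P.ι.obj f.left) := hP _ f.left.property
    obtain ⟨j, g, hg⟩ := IsFinitelyPresentable.exists_hom_of_isColimit p.isColimit f.hom
    exact ⟨j, ⟨CostructuredArrow.homMk (ObjectProperty.homMk g) hg⟩⟩
  · haveI : IsFinitelyPresentable.{u} f.left.obj := hP _ f.left.property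
    obtain ⟨k, a, b, h⟩ := IsFinitelyPresentable.exists_eq_of_isColimit p.isColimit
      g₁.left.hom g₂.left.hom ((CostructuredArrow.w g₁).trans (CostructuredArrow.w g₂).symm)
    refine ⟨IsFiltered.coeq a b, a ≫ IsFiltered.coeqHom a b, ?_⟩
    ext
    show g₁.left.hom ≫ p.diag.map (a ≫ IsFiltered.coeqHom a b) =
      g₂.left.hom ≫ p.diag.map (a ≫ IsFiltered.coeqHom a b)
    have e1 : p.diag.map (a ≫ IsFiltered.coeqHom a b) =
        p.diag.map a ≫ p.diag.map (IsFiltered.coeqHom a b) := p.diag.map_comp _ _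
    have e2 : p.diag.map (a ≫ IsFiltered.coeqHom a b) =
        p.diag.map b ≫ p.diag.map (IsFiltered.coeqHom a b) := by
      rw [IsFiltered.coeq_condition]
      exact p.diag.map_comp _ _
    calc g₁.left.hom ≫ p.diag.map (a ≫ IsFiltered.coeqHom a b)
        = g₁.left.hom ≫ (p.diag.map a ≫ p.diag.map (IsFiltered.coeqHom a b)) :=
          congrArg (g₁.left.hom ≫ ·) e1
      _ = (g₁.left.hom ≫ p.diag.map a) ≫ p.diag.map (IsFiltered.coeqHom a b) :=
          (Category.assoc _ _ _).symm
      _ = (g₂.left.hom ≫ p.diag.map b) ≫ p.diag.map (IsFiltered.coeqHom a b) :=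
          congrArg (· ≫ p.diag.map (IsFiltered.coeqHom a b)) h
      _ = g₂.left.hom ≫ (p.diag.map b ≫ p.diag.map (IsFiltered.coeqHom a b)) :=
          Category.assoc _ _ _
      _ = g₂.left.hom ≫ p.diag.map (a ≫ IsFiltered.coeqHom a b) :=
          (congrArg (g₂.left.hom ≫ ·) e2).symm

variable {B : Type u₂} [Category.{v₂} B]

/-- a functor commuting with filtered colimits is the pointwise left Kan extension of its
restriction to the objects with `P` -/
noncomputable def isPointwiseLKE (hP : P ≤ ObjectProperty.isFinitelyPresentable.{u} C)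
    (hpres : HasPres P) (F' : C ⥤ B) [PreservesFilteredColimitsOfSize.{u, u} F'] :
    (LeftExtension.mk (L := P.ι) (F := P.ι ⋙ F') F' (𝟙 _)).IsPointwiseLeftKanExtension := by
  intro X
  have h := hpres X
  let J := h.choose
  letI : Preorder J := h.choose_spec.choose
  haveI : IsDirected J (· ≤ ·) := h.choose_spec.choose_spec.choose
  haveI : Nonempty J := h.choose_spec.choose_spec.choose_spec.choose
  let p : P.ColimitOfShape J X := h.choose_spec.choose_spec.choose_spec.choose_spec.some
  haveI := final_toCostructuredArrow hP p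
  refine (Functor.Final.isColimitWhiskerEquiv (F := p.toCostructuredArrow) _).1 ?_
  haveI : PreservesColimitsOfShape J F' :=
    PreservesFilteredColimitsOfSize.preserves_filtered_colimits J
  exact IsColimit.ofIsoColimit (isColimitOfPreserves F' p.isColimit)
    (Cocone.ext (Iso.refl _) (fun j => by
      show F'.map (p.ι.app j) ≫ 𝟙 _ = 𝟙 _ ≫ F'.map (p.ι.app j)
      simp))

/-- **uniqueness**: two functors commuting with filtered colimits with isomorphic restrictions are
isomorphic -/
theorem nonempty_iso_of_restriction (hP : P ≤ ObjectProperty.isFinitelyPresentable.{u} C)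
    (hpres : HasPres P) (F₁ F₂ : C ⥤ B) [PreservesFilteredColimitsOfSize.{u, u} F₁]
    [PreservesFilteredColimitsOfSize.{u, u} F₂] (e : P.ι ⋙ F₁ ≅ P.ι ⋙ F₂) :
    Nonempty (F₁ ≅ F₂) := by
  haveI : F₁.IsLeftKanExtension (𝟙 (P.ι ⋙ F₁)) :=
    (isPointwiseLKE hP hpres F₁).isLeftKanExtension
  haveI : F₂.IsLeftKanExtension (𝟙 (P.ι ⋙ F₂)) :=
    (isPointwiseLKE hP hpres F₂).isLeftKanExtension
  exact ⟨leftKanExtensionUniqueOfIso F₁ (𝟙 (P.ι ⋙ F₁)) e F₂ (𝟙 (P.ι ⋙ F₂))⟩

end Groth.Agent.Lib.Helper5.FPExt
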