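import Mathlib
import Groth.Agent.Lib.Helper5.FPExt.K1

set_option autoImplicit false
universe u u₁ v₂ u₂
open CategoryTheory CategoryTheory.Limits Opposite CategoryTheory.Functor

namespace Groth.Agent.Lib.Helper5.FPExt

variable {C : Type u₁} [Category.{u} C] [Preadditive C] {P : ObjectProperty C}
variable {B : Type u₂} [Category.{v₂} B] [Preadditive B]

/-- additivity on maps between objects with `P` -/
theorem map_add_PP (F' : C ⥤ B) [(P.ι ⋙ F').Additive] {Q R : C} (hQ : P Q) (hR : P R)
    (f g : Q ⟶ R) : F'.map (f + g) = F'.map f + F'.map g := by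
  have h := (P.ι ⋙ F').map_add (f := (P.homMk f : (⟨Q, hQ⟩ : P.FullSubcategory) ⟶ ⟨R, hR⟩))
    (g := P.homMk g)
  exact h

/-- additivity on maps out of an object with `P` -/
theorem map_add_P (hP : P ≤ ObjectProperty.isFinitelyPresentable.{u} C) (hpres : HasPres P)
    (F' : C ⥤ B) [(P.ι ⋙ F').Additive] {Q Y : C} (hQ : P Q) (f g : Q ⟶ Y) :
    F'.map (f + g) = F'.map f + F'.map g := by
  obtain ⟨J, _, _, _, ⟨p⟩⟩ := hpres Y
  haveI : IsFinitelyPresentable.{u} Q := hP _ hQ
  obtain ⟨k₁, f', hf'⟩ := IsFinitelyPresentable.exists_hom_of_isColimit p.isColimit f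
  obtain ⟨k₂, g', hg'⟩ := IsFinitelyPresentable.exists_hom_of_isColimit p.isColimit g
  obtain ⟨k, h1, h2⟩ := exists_ge_ge k₁ k₂
  have e1 : p.diag.map (homOfLE h1) ≫ p.ι.app k = p.ι.app k₁ := by
    have := p.ι.naturality (homOfLE h1)
    simpa using this
  have e2 : p.diag.map (homOfLE h2) ≫ p.ι.app k = p.ι.app k₂ := by
    have := p.ι.naturality (homOfLE h2)
    simpa using this
  have hf : f = (f' ≫ p.diag.map (homOfLE h1)) ≫ p.ι.app k := by
    rw [Category.assoc, e1]
    exact hf'.symm
  have hg : g = (g' ≫ p.diag.map (homOfLE h2)) ≫ p.ι.app k := by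
    rw [Category.assoc, e2]
    exact hg'.symm
  have hfg : f + g = (f' ≫ p.diag.map (homOfLE h1) + g' ≫ p.diag.map (homOfLE h2)) ≫
      p.ι.app k := by
    rw [Preadditive.add_comp, ← hf, ← hg]
  rw [hfg, Functor.map_comp, map_add_PP F' hQ (p.prop_diag_obj k), Preadditive.add_comp,
    ← Functor.map_comp, ← Functor.map_comp, ← hf, ← hg]

/-- **additivity**: a functor commuting with filtered colimits whose restriction to the objects
with `P` is additive is additive -/
theorem additive_of_restriction (hP : P ≤ ObjectProperty.isFinitelyPresentable.{u} C)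
    (hpres : HasPres P) (F' : C ⥤ B) [PreservesFilteredColimitsOfSize.{u, u} F']
    [(P.ι ⋙ F').Additive] : F'.Additive where
  map_add {X Y} {f g} := by
    obtain ⟨J, _, _, _, ⟨p⟩⟩ := hpres X
    haveI : PreservesColimitsOfShape J F' :=
      PreservesFilteredColimitsOfSize.preserves_filtered_colimits J
    apply (isColimitOfPreserves F' p.isColimit).hom_ext
    intro j
    show F'.map (p.ι.app j) ≫ F'.map (f + g) = F'.map (p.ι.app j) ≫ (F'.map f + F'.map g)
    rw [← Functor.map_comp, Preadditive.comp_add, Preadditive.comp_add, ← Functor.map_comp,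
      ← Functor.map_comp]
    exact map_add_P hP hpres F' (p.prop_diag_obj j) _ _

end Groth.Agent.Lib.Helper5.FPExt
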