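import Mathlib
import Groth.Agent.Lib.Helper5.FPExt.K1

set_option autoImplicit false
universe u u₁
open CategoryTheory CategoryTheory.Limits Opposite CategoryTheory.Functor

namespace Groth.Agent.Lib.Helper5.FPExt

variable {C : Type u₁} [Category.{u} C] {P : ObjectProperty C}

section Tr

variable {I : Type u} [Preorder I] (D : I ⥤ C)

/-- transition maps of a diagram indexed by a preorder -/
def tr {a b : I} (h : a ≤ b) : D.obj a ⟶ D.obj b := D.map (homOfLE h)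

theorem tr_tr {a b c : I} (h : a ≤ b) (h' : b ≤ c) : tr D h ≫ tr D h' = tr D (h.trans h') := by
  unfold tr
  rw [← D.map_comp]
  rfl

theorem tr_refl (a : I) : tr D (le_refl a) = 𝟙 _ := by
  unfold tr
  rw [← D.map_id]
  rfl

theorem map_eq_tr {a b : I} (m : a ⟶ b) : D.map m = tr D (leOfHom m) := by
  unfold tr
  rfl

theorem tr_ι {X : C} (ι : D ⟶ (Functor.const I).obj X) {a b : I} (h : a ≤ b) :
    tr D h ≫ ι.app b = ι.app a := by
  have := ι.naturality (homOfLE h)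
  simpa [tr] using this

end Tr

section Tri

variable {I J : Type u} [Preorder I] [Preorder J] {X Y : C}
  (pX : P.ColimitOfShape I X) (pY : P.ColimitOfShape J Y) (f : X ⟶ Y)

/-- compatible maps between the terms of two presentations -/
structure Tri where
  i : I
  j : J
  g : pX.diag.obj i ⟶ pY.diag.obj j
  w : g ≫ pY.ι.app j = pX.ι.app i ≫ f

instance : Preorder (Tri pX pY f) where
  le t t' := ∃ (hi : t.i ≤ t'.i) (hj : t.j ≤ t'.j),
    t.g ≫ tr pY.diag hj = tr pX.diag hi ≫ t'.g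
  le_refl t := ⟨le_rfl, le_rfl, by rw [tr_refl, tr_refl, Category.comp_id, Category.id_comp]⟩
  le_trans a b c := by
    rintro ⟨hi, hj, h⟩ ⟨hi', hj', h'⟩
    refine ⟨hi.trans hi', hj.trans hj', ?_⟩
    rw [← tr_tr pY.diag hj hj', ← Category.assoc, h, Category.assoc, h', ← Category.assoc,
      tr_tr]

variable {pX pY f}

theorem Tri.le_iff (t t' : Tri pX pY f) : t ≤ t' ↔ ∃ (hi : t.i ≤ t'.i) (hj : t.j ≤ t'.j),
    t.g ≫ tr pY.diag hj = tr pX.diag hi ≫ t'.g := Iff.rfl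

variable (pX pY f)
variable (hP : P ≤ ObjectProperty.isFinitelyPresentable.{u} C)
  [IsDirected J (· ≤ ·)] [Nonempty J]

include hP in
theorem exists_lift (i : I) : ∃ (j : J) (g : pX.diag.obj i ⟶ pY.diag.obj j),
    g ≫ pY.ι.app j = pX.ι.app i ≫ f := by
  haveI : IsFinitelyPresentable.{u} (pX.diag.obj i) := hP _ (pX.prop_diag_obj i)
  exact IsFinitelyPresentable.exists_hom_of_isColimit pY.isColimit (pX.ι.app i ≫ f)

include hP in
theorem exists_equalize (i : I) (j : J) (a b : pX.diag.obj i ⟶ pY.diag.obj j)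
    (h : a ≫ pY.ι.app j = b ≫ pY.ι.app j) :
    ∃ (j' : J) (hj : j ≤ j'), a ≫ tr pY.diag hj = b ≫ tr pY.diag hj := by
  haveI : IsFinitelyPresentable.{u} (pX.diag.obj i) := hP _ (pX.prop_diag_obj i)
  obtain ⟨k, u', v', huv⟩ := IsFinitelyPresentable.exists_eq_of_isColimit pY.isColimit a b h
  refine ⟨k, leOfHom u', ?_⟩
  have : v' = u' := Subsingleton.elim _ _
  subst this
  exact huv

end Tri

section Tri2

variable {I J : Type u} [Preorder I] [Preorder J] {X Y : C}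
  (pX : P.ColimitOfShape I X) (pY : P.ColimitOfShape J Y) (f : X ⟶ Y)
  (hP : P ≤ ObjectProperty.isFinitelyPresentable.{u} C)
  [IsDirected I (· ≤ ·)] [Nonempty I] [IsDirected J (· ≤ ·)] [Nonempty J]

include hP in
theorem Tri.exists_i (i : I) : ∃ t : Tri pX pY f, i ≤ t.i := by
  obtain ⟨j, g, w⟩ := exists_lift pX pY f hP i
  exact ⟨⟨i, j, g, w⟩, le_rfl⟩

include hP in
theorem Tri.exists_j (j : J) : ∃ t : Tri pX pY f, j ≤ t.j := by
  obtain ⟨i⟩ := ‹Nonempty I›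
  obtain ⟨j₀, g, w⟩ := exists_lift pX pY f hP i
  obtain ⟨j', h1, h2⟩ := exists_ge_ge j₀ j
  refine ⟨⟨i, j', g ≫ tr pY.diag h1, ?_⟩, h2⟩
  rw [Category.assoc, tr_ι, w]

include hP in
theorem Tri.nonempty : Nonempty (Tri pX pY f) := by
  obtain ⟨i⟩ := ‹Nonempty I›
  obtain ⟨t, _⟩ := Tri.exists_i pX pY f hP i
  exact ⟨t⟩

include hP in
theorem Tri.isDirected : IsDirected (Tri pX pY f) (· ≤ ·) := by
  refine ⟨fun t₁ t₂ => ?_⟩
  obtain ⟨i₀, hi1, hi2⟩ := exists_ge_ge t₁.i t₂.i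
  obtain ⟨j₀, g₀, w₀⟩ := exists_lift pX pY f hP i₀
  obtain ⟨j₁', hj0, hj1'⟩ := exists_ge_ge j₀ t₁.j
  obtain ⟨j₁, hj1'', hj2⟩ := exists_ge_ge j₁' t₂.j
  have hj01 : j₀ ≤ j₁ := hj0.trans hj1''
  have hj1 : t₁.j ≤ j₁ := hj1'.trans hj1''
  -- equalize for t₁
  obtain ⟨j₂, h12, e1⟩ := exists_equalize pX pY hP t₁.i j₁ (t₁.g ≫ tr pY.diag hj1)
    (tr pX.diag hi1 ≫ g₀ ≫ tr pY.diag hj01) (by
      rw [Category.assoc, tr_ι, t₁.w, Category.assoc, Category.assoc, tr_ι, w₀,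
        ← Category.assoc, tr_ι])
  obtain ⟨j₃, h13, e2⟩ := exists_equalize pX pY hP t₂.i j₁ (t₂.g ≫ tr pY.diag hj2)
    (tr pX.diag hi2 ≫ g₀ ≫ tr pY.diag hj01) (by
      rw [Category.assoc, tr_ι, t₂.w, Category.assoc, Category.assoc, tr_ι, w₀,
        ← Category.assoc, tr_ι])
  obtain ⟨j₄, h24, h34⟩ := exists_ge_ge j₂ j₃
  have h04 : j₀ ≤ j₄ := hj01.trans (h12.trans h24)
  refine ⟨⟨i₀, j₄, g₀ ≫ tr pY.diag h04, by rw [Category.assoc, tr_ι, w₀]⟩, ?_, ?_⟩
  · refine ⟨hi1, hj1.trans (h12.trans h24), ?_⟩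
    have := congrArg (· ≫ tr pY.diag h24) e1
    simp only [Category.assoc, tr_tr] at this
    exact this
  · refine ⟨hi2, hj2.trans (h13.trans h34), ?_⟩
    have := congrArg (· ≫ tr pY.diag h34) e2
    simp only [Category.assoc, tr_tr] at this
    exact this

end Tri2

end Groth.Agent.Lib.Helper5.FPExt
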