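import Mathlib
import Groth.Agent.Lib.Helper5.FPExt.Arrow1

set_option autoImplicit false
universe u u₁
open CategoryTheory CategoryTheory.Limits Opposite CategoryTheory.Functor

namespace Groth.Agent.Lib.Helper5.FPExt

variable {C : Type u₁} [Category.{u} C] {P : ObjectProperty C}

/-- every morphism is a directed colimit of morphisms between objects with `P` -/
theorem exists_arrow_presentation (hP : P ≤ ObjectProperty.isFinitelyPresentable.{u} C)
    (hpres : HasPres P) {X Y : C} (f : X ⟶ Y) :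
    ∃ (K : Type u) (_ : Preorder K) (_ : IsDirected K (· ≤ ·)) (_ : Nonempty K)
      (D₁ D₂ : K ⥤ C) (φ : D₁ ⟶ D₂) (ι₁ : D₁ ⟶ (Functor.const K).obj X)
      (ι₂ : D₂ ⟶ (Functor.const K).obj Y),
      (∀ k, P (D₁.obj k)) ∧ (∀ k, P (D₂.obj k)) ∧ Nonempty (IsColimit (Cocone.mk X ι₁)) ∧
      Nonempty (IsColimit (Cocone.mk Y ι₂)) ∧ ∀ k, ι₁.app k ≫ f = φ.app k ≫ ι₂.app k := by
  obtain ⟨I, _, _, _, ⟨pX⟩⟩ := hpres X
  obtain ⟨J, _, _, _, ⟨pY⟩⟩ := hpres Y
  haveI hdir : IsDirected (Tri pX pY f) (· ≤ ·) := Tri.isDirected pX pY f hP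
  haveI hne : Nonempty (Tri pX pY f) := Tri.nonempty pX pY f hP
  have hm₁ : Monotone (fun t : Tri pX pY f => t.i) := fun t t' h => by
    obtain ⟨hi, _, _⟩ := h
    exact hi
  have hm₂ : Monotone (fun t : Tri pX pY f => t.j) := fun t t' h => by
    obtain ⟨_, hj, _⟩ := h
    exact hj
  haveI : hm₁.functor.Final := (hm₁.final_functor_iff).2 (Tri.exists_i pX pY f hP)
  haveI : hm₂.functor.Final := (hm₂.final_functor_iff).2 (Tri.exists_j pX pY f hP)
  refine ⟨Tri pX pY f, inferInstance, hdir, hne, hm₁.functor ⋙ pX.diag, hm₂.functor ⋙ pY.diag,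
    { app := fun t => t.g, naturality := ?_ }, whiskerLeft hm₁.functor pX.ι,
    whiskerLeft hm₂.functor pY.ι, fun k => pX.prop_diag_obj _, fun k => pY.prop_diag_obj _,
    ⟨?_⟩, ⟨?_⟩, fun k => k.w.symm⟩
  · intro t t' m
    obtain ⟨hi, hj, h⟩ := leOfHom m
    exact h.symm
  · exact (Functor.Final.isColimitWhiskerEquiv hm₁.functor (Cocone.mk X pX.ι)).symm pX.isColimit
  · exact (Functor.Final.isColimitWhiskerEquiv hm₂.functor (Cocone.mk Y pY.ι)).symm pY.isColimit

end Groth.Agent.Lib.Helper5.FPExt
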