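import Mathlib

set_option autoImplicit false
universe u v w w'
open CategoryTheory

namespace Groth.Agent.Lib.Helper5.FPExt

variable {A : Type u} [CommRing A]

/-- a coherent module: finitely generated with finitely presented finitely generated submodules -/
def IsCoh (A : Type u) [CommRing A] (M : Type v) [AddCommGroup M] [Module A M] : Prop :=
  Module.Finite A M ∧ ∀ N : Submodule A M, N.FG → Module.FinitePresentation A N

theorem fp_of_maps {N : Type w'} {M : Type v} {M' : Type w} [AddCommGroup N] [Module A N]
    [AddCommGroup M] [Module A M] [AddCommGroup M'] [Module A M'] [Module.Finite A N]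
    (a : N →ₗ[A] M) (b : N →ₗ[A] M') (hinj : ∀ x, a x = 0 → b x = 0 → x = 0)
    (hM : ∀ L : Submodule A M, L.FG → Module.FinitePresentation A L)
    (hM' : ∀ L : Submodule A M', L.FG → Module.FinitePresentation A L) :
    Module.FinitePresentation A N := by
  have hr : (LinearMap.range b).FG := by
    rw [LinearMap.range_eq_map]
    exact Module.Finite.fg_top.map b
  haveI : Module.FinitePresentation A (LinearMap.range b) := hM' _ hr
  have hs : Function.Surjective b.rangeRestrict := LinearMap.surjective_rangeRestrict b
  have hk : (LinearMap.ker b.rangeRestrict).FG :=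
    Module.FinitePresentation.fg_ker b.rangeRestrict hs
  rw [LinearMap.ker_rangeRestrict] at hk
  haveI : Module.Finite A (LinearMap.ker b) := Module.Finite.of_fg hk
  have hψ : Function.Injective (a ∘ₗ (LinearMap.ker b).subtype) := by
    intro x y hxy
    have h3 : x - y = 0 := by
      apply Subtype.ext
      apply hinj
      · have : a x.1 = a y.1 := hxy
        show a (x.1 - y.1) = 0
        rw [map_sub, this, sub_self]
      · show b (x.1 - y.1) = 0
        rw [map_sub, LinearMap.mem_ker.1 x.2, LinearMap.mem_ker.1 y.2, sub_self]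
    exact sub_eq_zero.1 h3
  have hrψ : (LinearMap.range (a ∘ₗ (LinearMap.ker b).subtype)).FG := by
    rw [LinearMap.range_eq_map]
    exact Module.Finite.fg_top.map _
  haveI : Module.FinitePresentation A (LinearMap.range (a ∘ₗ (LinearMap.ker b).subtype)) :=
    hM _ hrψ
  haveI : Module.FinitePresentation A (LinearMap.ker b) :=
    Module.FinitePresentation.of_equiv
      (LinearEquiv.ofInjective (a ∘ₗ (LinearMap.ker b).subtype) hψ).symm
  haveI : Module.FinitePresentation A (LinearMap.ker b.rangeRestrict) := by
    rw [LinearMap.ker_rangeRestrict]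
    infer_instance
  exact Module.finitePresentation_of_ker b.rangeRestrict hs


section

variable {M : Type v} [AddCommGroup M] [Module A M] {M' : Type w} [AddCommGroup M'] [Module A M']

theorem IsCoh.of_equiv (e : M ≃ₗ[A] M') (h : IsCoh A M) : IsCoh A M' := by
  obtain ⟨h1, h2⟩ := h
  refine ⟨Module.Finite.equiv e, fun N hN => ?_⟩
  have hN' : (N.comap e.toLinearMap).FG := by
    have : N.comap e.toLinearMap = N.map e.symm.toLinearMap :=
      (Submodule.map_equiv_eq_comap_symm e.symm N).symm
    rw [this]
    exact hN.map _
  haveI := h2 _ hN'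
  exact Module.FinitePresentation.of_equiv (e.ofSubmodule' N)

theorem IsCoh.of_subsingleton [Subsingleton M] : IsCoh A M :=
  ⟨inferInstance, fun _ _ => inferInstance⟩

theorem IsCoh.prod (h : IsCoh A M) (h' : IsCoh A M') : IsCoh A (M × M') := by
  obtain ⟨h1, h2⟩ := h
  obtain ⟨h1', h2'⟩ := h'
  refine ⟨inferInstance, fun N hN => ?_⟩
  haveI : Module.Finite A N := Module.Finite.of_fg hN
  refine fp_of_maps (LinearMap.fst A M M' ∘ₗ N.subtype) (LinearMap.snd A M M' ∘ₗ N.subtype)
    ?_ h2 h2'
  intro x hx hy
  apply Subtype.ext
  exact Prod.ext hx hy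

theorem IsCoh.quotient (h : IsCoh A M) (L : Submodule A M) (hL : L.FG) : IsCoh A (M ⧸ L) := by
  obtain ⟨h1, h2⟩ := h
  refine ⟨inferInstance, fun Nb hNb => ?_⟩
  let q := L.mkQ
  let N : Submodule A M := Nb.comap q
  have hLN : L ≤ N := by
    intro x hx
    show q x ∈ Nb
    have : q x = 0 := (Submodule.Quotient.mk_eq_zero L).2 hx
    rw [this]
    exact Nb.zero_mem
  have hN : N.FG := by
    apply Submodule.fg_of_fg_map_of_fg_inf_ker q
    · rw [Submodule.map_comap_eq_of_surjective (Submodule.mkQ_surjective L)]
      exact hNb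
    · rw [Submodule.ker_mkQ, inf_eq_right.mpr hLN]
      exact hL
  haveI : Module.FinitePresentation A N := h2 N hN
  let r : N →ₗ[A] Nb := q.restrict (fun x hx => hx)
  have hr : Function.Surjective r := by
    rintro ⟨y, hy⟩
    obtain ⟨x, rfl⟩ := Submodule.mkQ_surjective L y
    exact ⟨⟨x, hy⟩, rfl⟩
  refine Module.finitePresentation_of_surjective r hr ?_
  have hker : LinearMap.ker r = LinearMap.range (Submodule.inclusion hLN) := by
    ext x
    constructor
    · intro hx
      have h0 : q x.1 = 0 := congrArg Subtype.val hx
      have hxL : x.1 ∈ L := (Submodule.Quotient.mk_eq_zero L).1 h0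
      exact ⟨⟨x.1, hxL⟩, Subtype.ext rfl⟩
    · rintro ⟨y, rfl⟩
      apply Subtype.ext
      exact (Submodule.Quotient.mk_eq_zero L).2 y.2
  rw [hker, LinearMap.range_eq_map]
  haveI : Module.Finite A L := Module.Finite.of_fg hL
  exact Module.Finite.fg_top.map _

end

variable (hcoh : ∀ I : Ideal A, I.FG → Module.FinitePresentation A I)

include hcoh in
theorem isCoh_self : IsCoh A A := ⟨inferInstance, fun I hI => hcoh I hI⟩

include hcoh in
theorem isCoh_pi (n : ℕ) : IsCoh A (Fin n → A) := by
  induction n with
  | zero => exact IsCoh.of_subsingleton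
  | succ n ih =>
    exact ((isCoh_self hcoh).prod ih).of_equiv (Fin.consLinearEquiv A (fun _ : Fin (n + 1) => A))

include hcoh in
theorem isCoh_of_fp (M : Type v) [AddCommGroup M] [Module A M] [Module.FinitePresentation A M] :
    IsCoh A M := by
  obtain ⟨n, K, e, hK⟩ := Module.FinitePresentation.exists_fin A M
  exact ((isCoh_pi hcoh n).quotient K hK).of_equiv e.symm

include hcoh in
/-- over a coherent ring, the kernel of a map between finitely presented modules is finitely
presented -/
theorem fp_ker {Q : Type v} {R : Type w} [AddCommGroup Q] [Module A Q] [AddCommGroup R]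
    [Module A R] [Module.FinitePresentation A Q] [Module.FinitePresentation A R]
    (g : Q →ₗ[A] R) : Module.FinitePresentation A (LinearMap.ker g) := by
  have hr : (LinearMap.range g).FG := by
    rw [LinearMap.range_eq_map]
    exact Module.Finite.fg_top.map g
  haveI : Module.FinitePresentation A (LinearMap.range g) := (isCoh_of_fp hcoh R).2 _ hr
  have hk : (LinearMap.ker g.rangeRestrict).FG :=
    Module.FinitePresentation.fg_ker g.rangeRestrict (LinearMap.surjective_rangeRestrict g)
  rw [LinearMap.ker_rangeRestrict] at hk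
  exact (isCoh_of_fp hcoh Q).2 _ hk

end Groth.Agent.Lib.Helper5.FPExt
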