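import Mathlib
import Groth.Agent.Lib.Helper5.FPExt.K1

set_option autoImplicit false
universe u u₁ v₂ u₂
open CategoryTheory CategoryTheory.Limits Opposite CategoryTheory.Functor

namespace Groth.Agent.Lib.Helper5.FPExt

variable {C : Type u₁} [Category.{u} C] {P : ObjectProperty C}
variable {B : Type u₂} [Category.{v₂} B]

section Pres

variable {F : P.FullSubcategory ⥤ B} (E : LeftExtension P.ι F)
  {K : Type u} [SmallCategory K] [IsFiltered K] {G : K ⥤ C} {c : Cocone G}
  (s : Cocone (G ⋙ E.right))

/-- the leg of the descended cocone through a factorization -/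
def leg (Q : P.FullSubcategory) (k : K) (q : Q.obj ⟶ G.obj k) : F.obj Q ⟶ s.pt :=
  E.hom.app Q ≫ E.right.map q ≫ s.ι.app k

theorem leg_indep (hP : P ≤ ObjectProperty.isFinitelyPresentable.{u} C) (hc : IsColimit c)
    (Q : P.FullSubcategory) (k k' : K) (q₁ : Q.obj ⟶ G.obj k) (q₂ : Q.obj ⟶ G.obj k')
    (h : q₁ ≫ c.ι.app k = q₂ ≫ c.ι.app k') : leg E s Q k q₁ = leg E s Q k' q₂ := by
  haveI : IsFinitelyPresentable.{u} Q.obj := hP _ Q.property
  obtain ⟨l, a, b, hab⟩ := IsFinitelyPresentable.exists_eq_of_isColimit hc q₁ q₂ h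
  have h1 : s.ι.app k = E.right.map (G.map a) ≫ s.ι.app l := (s.w a).symm
  have h2 : s.ι.app k' = E.right.map (G.map b) ≫ s.ι.app l := (s.w b).symm
  unfold leg
  rw [h1, h2, ← Functor.map_comp_assoc, ← Functor.map_comp_assoc, hab]

theorem exists_fac (hP : P ≤ ObjectProperty.isFinitelyPresentable.{u} C) (hc : IsColimit c)
    (g : CostructuredArrow P.ι c.pt) :
    ∃ (k : K) (q : g.left.obj ⟶ G.obj k), q ≫ c.ι.app k = g.hom := by
  haveI : IsFinitelyPresentable.{u} (P.ι.obj g.left) := hP _ g.left.property
  exact IsFinitelyPresentable.exists_hom_of_isColimit hc g.hom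

/-- the cocone on the canonical diagram of `c.pt` induced by a cocone on `G ⋙ F'` -/
noncomputable def descCocone (hP : P ≤ ObjectProperty.isFinitelyPresentable.{u} C)
    (hc : IsColimit c) : Cocone (CostructuredArrow.proj P.ι c.pt ⋙ F) where
  pt := s.pt
  ι :=
    { app := fun g => leg E s g.left (exists_fac hP hc g).choose
        (exists_fac hP hc g).choose_spec.choose
      naturality := by
        intro g₁ g₂ φ
        have hn : F.map φ.left ≫ E.hom.app g₂.left =
            E.hom.app g₁.left ≫ E.right.map (P.ι.map φ.left) := E.hom.naturality φ.left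
        have h2 := (exists_fac hP hc g₂).choose_spec.choose_spec
        have h1 := (exists_fac hP hc g₁).choose_spec.choose_spec
        have key : F.map φ.left ≫ leg E s g₂.left (exists_fac hP hc g₂).choose
            (exists_fac hP hc g₂).choose_spec.choose =
            leg E s g₁.left (exists_fac hP hc g₂).choose
              (P.ι.map φ.left ≫ (exists_fac hP hc g₂).choose_spec.choose) := by
          unfold leg
          rw [← Category.assoc, hn, Functor.map_comp]
          simp only [Category.assoc]
        show F.map φ.left ≫ _ = _ ≫ 𝟙 _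
        rw [Category.comp_id, key]
        apply leg_indep E s hP hc
        rw [Category.assoc, h2, h1]
        exact CostructuredArrow.w φ }

theorem descCocone_ι (hP : P ≤ ObjectProperty.isFinitelyPresentable.{u} C)
    (hc : IsColimit c) (g : CostructuredArrow P.ι c.pt) (k : K) (q : g.left.obj ⟶ G.obj k)
    (h : q ≫ c.ι.app k = g.hom) :
    (descCocone E s hP hc).ι.app g = leg E s g.left k q := by
  apply leg_indep E s hP hc
  rw [(exists_fac hP hc g).choose_spec.choose_spec, h]

/-- a pointwise left Kan extension along the inclusion of finitely presentable objects commutes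
with filtered colimits -/
noncomputable def isColimitMapCocone (hP : P ≤ ObjectProperty.isFinitelyPresentable.{u} C)
    (hc : IsColimit c) (hE : E.IsPointwiseLeftKanExtension) :
    IsColimit (E.right.mapCocone c) where
  desc s := (hE c.pt).desc (descCocone E s hP hc)
  fac s k := by
    apply (hE (G.obj k)).hom_ext'
    intro Q φ
    have h1 := (hE c.pt).fac (descCocone E s hP hc) (CostructuredArrow.mk (φ ≫ c.ι.app k))
    rw [descCocone_ι E s hP hc (CostructuredArrow.mk (φ ≫ c.ι.app k)) k φ rfl] at h1
    have h1' : (E.hom.app Q ≫ E.right.map (φ ≫ c.ι.app k)) ≫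
        (hE c.pt).desc (descCocone E s hP hc) = E.hom.app Q ≫ E.right.map φ ≫ s.ι.app k := h1
    rw [Functor.map_comp, Category.assoc, Category.assoc] at h1'
    exact h1'
  uniq s m hm := by
    apply (hE c.pt).hom_ext
    intro g
    refine Eq.trans ?_ ((hE c.pt).fac (descCocone E s hP hc) g).symm
    obtain ⟨k, q, hq⟩ := exists_fac hP hc g
    rw [descCocone_ι E s hP hc g k q hq]
    have hmk : E.right.map (c.ι.app k) ≫ m = s.ι.app k := hm k
    show (E.hom.app g.left ≫ E.right.map g.hom) ≫ m =
      E.hom.app g.left ≫ E.right.map q ≫ s.ι.app k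
    rw [← hq, Functor.map_comp, Category.assoc, Category.assoc, hmk]

end Pres

end Groth.Agent.Lib.Helper5.FPExt
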