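import Mathlib
import Groth.Agent.Lib.Helper5.FPExt.K2

set_option autoImplicit false
universe u u₁ v₂ u₂
open CategoryTheory CategoryTheory.Limits Opposite CategoryTheory.Functor

namespace Groth.Agent.Lib.Helper5.FPExt

variable {C : Type u₁} [Category.{u} C] {P : ObjectProperty C}
variable {B : Type u₂} [Category.{v₂} B]

theorem hasPointwiseLeftKanExtension (hP : P ≤ ObjectProperty.isFinitelyPresentable.{u} C)
    (hpres : HasPres P) [HasFilteredColimitsOfSize.{u, u} B] (F : P.FullSubcategory ⥤ B) :
    P.ι.HasPointwiseLeftKanExtension F := by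
  intro X
  obtain ⟨J, _, _, _, ⟨p⟩⟩ := hpres X
  haveI := final_toCostructuredArrow hP p
  haveI : HasColimitsOfShape J B := HasFilteredColimitsOfSize.HasColimitsOfShape J
  exact Functor.Final.hasColimit_of_comp p.toCostructuredArrow

/-- **existence**: a functor on the objects with `P` extends to a functor commuting with filtered
colimits -/
theorem exists_extension (hP : P ≤ ObjectProperty.isFinitelyPresentable.{u} C)
    (hpres : HasPres P) [HasFilteredColimitsOfSize.{u, u} B] (F : P.FullSubcategory ⥤ B) :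
    ∃ F' : C ⥤ B, PreservesFilteredColimitsOfSize.{u, u} F' ∧ Nonempty (P.ι ⋙ F' ≅ F) := by
  haveI := hasPointwiseLeftKanExtension hP hpres F
  let E : LeftExtension P.ι F := LeftExtension.mk _ (pointwiseLeftKanExtensionUnit P.ι F)
  have hE : E.IsPointwiseLeftKanExtension :=
    pointwiseLeftKanExtensionIsPointwiseLeftKanExtension P.ι F
  refine ⟨E.right, ⟨fun K _ _ => ⟨fun {G} => ⟨fun {c} hc => ⟨isColimitMapCocone E hP hc hE⟩⟩⟩⟩, ?_⟩
  haveI : IsIso E.hom := hE.isIso_hom
  exact ⟨(asIso E.hom).symm⟩

end Groth.Agent.Lib.Helper5.FPExt
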