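import Mathlib

set_option autoImplicit false
universe u u₁ v₂ u₂ w w'
open CategoryTheory CategoryTheory.Limits Opposite CategoryTheory.Functor

namespace Groth.Agent.Lib.Helper5.FPExt

variable {C : Type u₁} [Category.{u} C] {B : Type u₂} [Category.{v₂} B]
variable {Sh : Type w} [Category.{w'} Sh]
variable (K : Type u) [SmallCategory K] [HasColimitsOfShape K C] [HasColimitsOfShape K B]

/-- transfer of preservation of a colimit through a filtered colimit of diagrams -/
theorem preservesColimit_comp_colim [HasColimitsOfShape Sh C] (F' : C ⥤ B)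
    [PreservesColimitsOfShape K F'] (𝔻 : Sh ⥤ (K ⥤ C))
    (h3 : ∀ k, PreservesColimit (𝔻 ⋙ (evaluation K C).obj k) F') :
    PreservesColimit (𝔻 ⋙ (colim : (K ⥤ C) ⥤ C)) F' := by
  haveI : PreservesColimitsOfSize.{w', w} (colim : (K ⥤ C) ⥤ C) :=
    colimConstAdj.leftAdjoint_preservesColimits
  haveI : PreservesColimitsOfSize.{w', w} (colim : (K ⥤ B) ⥤ B) :=
    colimConstAdj.leftAdjoint_preservesColimits
  haveI ha : PreservesColimit 𝔻 ((whiskeringRight K C B).obj F') := by
    apply preservesColimit_of_evaluation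
    intro k
    haveI := h3 k
    have : PreservesColimit 𝔻 ((evaluation K C).obj k ⋙ F') := inferInstance
    exact this
  haveI hb : PreservesColimit 𝔻 ((whiskeringRight K C B).obj F' ⋙ (colim : (K ⥤ B) ⥤ B)) :=
    inferInstance
  haveI hc : PreservesColimit 𝔻 ((colim : (K ⥤ C) ⥤ C) ⋙ F') :=
    preservesColimit_of_natIso 𝔻 (preservesColimitNatIso F').symm
  exact preservesColimit_of_preserves_colimit_cocone
    (isColimitOfPreserves (colim : (K ⥤ C) ⥤ C) (colimit.isColimit 𝔻))
    (isColimitOfPreserves ((colim : (K ⥤ C) ⥤ C) ⋙ F') (colimit.isColimit 𝔻))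

/-- transfer of preservation of a limit through a filtered colimit of diagrams -/
theorem preservesLimit_comp_colim [HasLimitsOfShape Sh C] (F' : C ⥤ B)
    [PreservesColimitsOfShape K F'] (𝔻 : Sh ⥤ (K ⥤ C))
    (h1 : PreservesLimit 𝔻 (colim : (K ⥤ C) ⥤ C))
    (h2 : PreservesLimit (𝔻 ⋙ (whiskeringRight K C B).obj F') (colim : (K ⥤ B) ⥤ B))
    (h3 : ∀ k, PreservesLimit (𝔻 ⋙ (evaluation K C).obj k) F') :
    PreservesLimit (𝔻 ⋙ (colim : (K ⥤ C) ⥤ C)) F' := by
  haveI ha : PreservesLimit 𝔻 ((whiskeringRight K C B).obj F') := by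
    apply preservesLimit_of_evaluation
    intro k
    haveI := h3 k
    have : PreservesLimit 𝔻 ((evaluation K C).obj k ⋙ F') := inferInstance
    exact this
  haveI hb : PreservesLimit 𝔻 ((whiskeringRight K C B).obj F' ⋙ (colim : (K ⥤ B) ⥤ B)) :=
    inferInstance
  haveI hc : PreservesLimit 𝔻 ((colim : (K ⥤ C) ⥤ C) ⋙ F') :=
    preservesLimit_of_natIso 𝔻 (preservesColimitNatIso F').symm
  exact preservesLimit_of_preserves_limit_cone
    (isLimitOfPreserves (colim : (K ⥤ C) ⥤ C) (limit.isLimit 𝔻))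
    (isLimitOfPreserves ((colim : (K ⥤ C) ⥤ C) ⋙ F') (limit.isLimit 𝔻))

end Groth.Agent.Lib.Helper5.FPExt
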