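import Mathlib
import Groth.Agent.Lib.Helper5.FPExt.Arrow2
import Groth.Agent.Lib.Helper5.FPExt.Trans1

set_option autoImplicit false
universe u u₁ v₂ u₂
open CategoryTheory CategoryTheory.Limits Opposite CategoryTheory.Functor

namespace Groth.Agent.Lib.Helper5.FPExt

variable {C : Type u₁} [Category.{u} C] {P : ObjectProperty C}
variable {B : Type u₂} [Category.{v₂} B]

section

variable [HasZeroMorphisms C] {K : Type u} [SmallCategory K] [HasColimitsOfShape K C]
  {D₁ D₂ : K ⥤ C} (φ : D₁ ⟶ D₂) {X Y : C} (f : X ⟶ Y)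
  (ι₁ : D₁ ⟶ (Functor.const K).obj X) (ι₂ : D₂ ⟶ (Functor.const K).obj Y)
  (hc₁ : IsColimit (Cocone.mk X ι₁)) (hc₂ : IsColimit (Cocone.mk Y ι₂))
  (compat : ∀ k, ι₁.app k ≫ f = φ.app k ≫ ι₂.app k)

/-- the colimit of the parallel pair `(φ, 0)` is the parallel pair `(f, 0)` -/
noncomputable def parallelPairColimIso :
    parallelPair φ (0 : D₁ ⟶ D₂) ⋙ (colim : (K ⥤ C) ⥤ C) ≅ parallelPair f 0 :=
  parallelPair.ext ((colimit.isColimit D₁).coconePointUniqueUpToIso hc₁)
    ((colimit.isColimit D₂).coconePointUniqueUpToIso hc₂)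
    (by
      apply colimit.hom_ext
      intro k
      have h1 : colimit.ι D₁ k ≫ ((colimit.isColimit D₁).coconePointUniqueUpToIso hc₁).hom =
          ι₁.app k := (colimit.isColimit D₁).comp_coconePointUniqueUpToIso_hom hc₁ k
      have h2 : colimit.ι D₂ k ≫ ((colimit.isColimit D₂).coconePointUniqueUpToIso hc₂).hom =
          ι₂.app k := (colimit.isColimit D₂).comp_coconePointUniqueUpToIso_hom hc₂ k
      show colimit.ι D₁ k ≫ colimMap φ ≫ _ = colimit.ι D₁ k ≫ _ ≫ f
      rw [ι_colimMap_assoc, h2, ← Category.assoc, h1, compat])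
    (by
      apply colimit.hom_ext
      intro k
      show colimit.ι D₁ k ≫ colimMap (0 : D₁ ⟶ D₂) ≫ _ = colimit.ι D₁ k ≫ _ ≫ 0
      rw [ι_colimMap_assoc]
      simp)

end

section Coker

variable [HasZeroMorphisms C] [HasColimitsOfShape WalkingParallelPair C]
  [HasFilteredColimitsOfSize.{u, u} C] [HasFilteredColimitsOfSize.{u, u} B]

/-- a functor commuting with filtered colimits and preserving the cokernels of maps between
objects with `P` preserves all cokernels -/
theorem preservesColimit_cokernel (hP : P ≤ ObjectProperty.isFinitelyPresentable.{u} C)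
    (hpres : HasPres P) (F' : C ⥤ B) [PreservesFilteredColimitsOfSize.{u, u} F']
    (hPP : ∀ {Q R : C} (_ : P Q) (_ : P R) (g : Q ⟶ R), PreservesColimit (parallelPair g 0) F')
    {X Y : C} (f : X ⟶ Y) : PreservesColimit (parallelPair f 0) F' := by
  obtain ⟨K, _, _, _, D₁, D₂, φ, ι₁, ι₂, h₁, h₂, ⟨hc₁⟩, ⟨hc₂⟩, compat⟩ :=
    exists_arrow_presentation hP hpres f
  haveI : HasColimitsOfShape K C := HasFilteredColimitsOfSize.HasColimitsOfShape K
  haveI : HasColimitsOfShape K B := HasFilteredColimitsOfSize.HasColimitsOfShape K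
  haveI : PreservesColimitsOfShape K F' :=
    PreservesFilteredColimitsOfSize.preserves_filtered_colimits K
  haveI key : PreservesColimit (parallelPair φ (0 : D₁ ⟶ D₂) ⋙ (colim : (K ⥤ C) ⥤ C)) F' := by
    apply preservesColimit_comp_colim K F'
    intro k
    haveI : PreservesColimit (parallelPair
        ((parallelPair φ (0 : D₁ ⟶ D₂) ⋙ (evaluation K C).obj k).map WalkingParallelPairHom.left)
        ((parallelPair φ (0 : D₁ ⟶ D₂) ⋙ (evaluation K C).obj k).map
          WalkingParallelPairHom.right)) F' := hPP (h₁ k) (h₂ k) (φ.app k)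
    exact preservesColimit_of_iso_diagram F'
      (diagramIsoParallelPair (parallelPair φ (0 : D₁ ⟶ D₂) ⋙ (evaluation K C).obj k)).symm
  exact preservesColimit_of_iso_diagram F' (parallelPairColimIso φ f ι₁ ι₂ hc₁ hc₂ compat)

end Coker

section Ker

variable [HasZeroMorphisms C] [HasLimitsOfShape WalkingParallelPair C]
  [HasFilteredColimitsOfSize.{u, u} C] [HasFilteredColimitsOfSize.{u, u} B]

/-- a functor commuting with filtered colimits and preserving the kernels of maps between
objects with `P` preserves all kernels, when filtered colimits are exact -/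
theorem preservesLimit_kernel (hP : P ≤ ObjectProperty.isFinitelyPresentable.{u} C)
    (hpres : HasPres P) (F' : C ⥤ B) [PreservesFilteredColimitsOfSize.{u, u} F']
    (hC : ∀ (K : Type u) [SmallCategory K] [IsFiltered K],
      PreservesLimitsOfShape WalkingParallelPair (colim : (K ⥤ C) ⥤ C))
    (hB : ∀ (K : Type u) [SmallCategory K] [IsFiltered K],
      PreservesLimitsOfShape WalkingParallelPair (colim : (K ⥤ B) ⥤ B))
    (hPP : ∀ {Q R : C} (_ : P Q) (_ : P R) (g : Q ⟶ R), PreservesLimit (parallelPair g 0) F')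
    {X Y : C} (f : X ⟶ Y) : PreservesLimit (parallelPair f 0) F' := by
  obtain ⟨K, _, _, _, D₁, D₂, φ, ι₁, ι₂, h₁, h₂, ⟨hc₁⟩, ⟨hc₂⟩, compat⟩ :=
    exists_arrow_presentation hP hpres f
  haveI : HasColimitsOfShape K C := HasFilteredColimitsOfSize.HasColimitsOfShape K
  haveI : HasColimitsOfShape K B := HasFilteredColimitsOfSize.HasColimitsOfShape K
  haveI : PreservesColimitsOfShape K F' :=
    PreservesFilteredColimitsOfSize.preserves_filtered_colimits K
  haveI := hC K
  haveI := hB K
  haveI key : PreservesLimit (parallelPair φ (0 : D₁ ⟶ D₂) ⋙ (colim : (K ⥤ C) ⥤ C)) F' := by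
    apply preservesLimit_comp_colim K F'
    · infer_instance
    · infer_instance
    · intro k
      haveI : PreservesLimit (parallelPair
          ((parallelPair φ (0 : D₁ ⟶ D₂) ⋙ (evaluation K C).obj k).map
            WalkingParallelPairHom.left)
          ((parallelPair φ (0 : D₁ ⟶ D₂) ⋙ (evaluation K C).obj k).map
            WalkingParallelPairHom.right)) F' := hPP (h₁ k) (h₂ k) (φ.app k)
      exact preservesLimit_of_iso_diagram F'
        (diagramIsoParallelPair (parallelPair φ (0 : D₁ ⟶ D₂) ⋙ (evaluation K C).obj k)).symm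
  exact preservesLimit_of_iso_diagram F' (parallelPairColimIso φ f ι₁ ι₂ hc₁ hc₂ compat)

end Ker

end Groth.Agent.Lib.Helper5.FPExt
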