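import Mathlib

set_option autoImplicit false
universe u
open CategoryTheory CategoryTheory.Limits Opposite

namespace Groth.Agent.Lib.Helper5.FPExt

variable (A : Type u) [CommRing A]

/-- the property of being a finitely presented module -/
abbrev fpProp : ObjectProperty (ModuleCat.{u} A) := fun M => Module.FinitePresentation A M

/-- `Hom(A, -)` is the forgetful functor -/
noncomputable def coyonedaIso : coyoneda.obj (op (ModuleCat.of A A)) ≅ forget (ModuleCat.{u} A) :=
  NatIso.ofComponents (fun M => Equiv.toIso
    { toFun := fun f => f.hom (1 : A)
      invFun := fun m => ModuleCat.ofHom (LinearMap.toSpanSingleton A M m)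
      left_inv := fun f => by
        apply ModuleCat.hom_ext
        apply LinearMap.ext_ring
        simp
      right_inv := fun m => by
        simp }) (by
    intro M N g
    ext f
    rfl)

attribute [local instance] Cardinal.fact_isRegular_aleph0

theorem isFinitelyPresentable_self : IsFinitelyPresentable.{u} (ModuleCat.of A A) := by
  rw [isFinitelyPresentable_iff_preservesFilteredColimitsOfSize]
  refine ⟨fun J _ _ => ?_⟩
  haveI : PreservesColimitsOfShape J (forget (ModuleCat.{u} A)) :=
    (ModuleCat.FilteredColimits.forget_preservesFilteredColimits (R := A)).preserves_filtered_colimits J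
  exact preservesColimitsOfShape_of_natIso (coyonedaIso A).symm

theorem isFinitelyPresentable_pi (n : ℕ) :
    IsFinitelyPresentable.{u} (ModuleCat.of A (Fin n → A)) := by
  let f : Fin n → ModuleCat.{u} A := fun _ => ModuleCat.of A A
  haveI : ∀ (k : Discrete (Fin n)),
      IsCardinalPresentable ((Discrete.functor f).obj k) Cardinal.aleph0.{u} :=
    fun _ => isFinitelyPresentable_self A
  have h1 : IsCardinalPresentable (⨁ f) Cardinal.aleph0.{u} := by
    refine isCardinalPresentable_of_isColimit _ (biproduct.isColimit f) Cardinal.aleph0.{u} ?_
    rw [hasCardinalLT_aleph0_iff]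
    infer_instance
  exact isCardinalPresentable_of_iso (ModuleCat.biproductIsoPi f) Cardinal.aleph0.{u}

end Groth.Agent.Lib.Helper5.FPExt
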