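import Mathlib
import Groth.Agent.Lib.Helper1.DirLimFP
import Groth.Agent.Lib.Helper5.FPExt.P1

set_option autoImplicit false
universe u
open CategoryTheory CategoryTheory.Limits Opposite

namespace Groth.Agent.Lib.Helper5.FPExt

variable (A : Type u) [CommRing A]

attribute [local instance] Cardinal.fact_isRegular_aleph0

theorem isFinitelyPresentable_of_fp (M : ModuleCat.{u} A) [Module.FinitePresentation A M] :
    IsFinitelyPresentable.{u} M := by
  obtain ⟨n, m, f, g, hf, hfg⟩ := Module.FinitePresentation.exists_fin' A M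
  let S : ShortComplex (ModuleCat.{u} A) :=
    ShortComplex.mk (ModuleCat.ofHom g) (ModuleCat.ofHom f : _ ⟶ M) (by
      apply ModuleCat.hom_ext
      apply LinearMap.ext
      intro x
      exact hfg.apply_apply_eq_zero x)
  have hS : S.Exact := ModuleCat.shortComplex_exact S hfg
  haveI : Epi S.g := (ModuleCat.epi_iff_surjective _).2 hf
  have hc : IsColimit (CokernelCofork.ofπ S.g S.zero) := hS.gIsCokernel
  haveI : ∀ k, IsCardinalPresentable ((parallelPair S.f 0).obj k) Cardinal.aleph0.{u} := by
    rintro (_|_)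
    · exact isFinitelyPresentable_pi A m
    · exact isFinitelyPresentable_pi A n
  refine isCardinalPresentable_of_isColimit _ hc Cardinal.aleph0.{u} ?_
  rw [hasCardinalLT_aleph0_iff]
  infer_instance

/-- every module is a directed colimit of finitely presented modules -/
theorem exists_presentation (M : ModuleCat.{u} A) :
    ∃ (J : Type u) (_ : Preorder J) (_ : IsDirected J (· ≤ ·)) (_ : Nonempty J)
      (D : J ⥤ ModuleCat.{u} A) (c : Cocone D),
      (∀ j, Module.FinitePresentation A (D.obj j)) ∧ Nonempty (IsColimit c) ∧ c.pt = M := by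
  obtain ⟨J, i1, i2, i3, i4, G, i5, i6, f, i7, hfp, ⟨e⟩⟩ :=
    Groth.Agent.Helper1.DirLimFP.main A M
  let c : Cocone (ModuleCat.directLimitDiagram G f) :=
    { pt := M
      ι := (ModuleCat.directLimitCocone G f).ι ≫
        (Functor.const J).map (e.toModuleIso.hom : ModuleCat.of A (Module.DirectLimit G f) ⟶ M) }
  refine ⟨J, i1, i2, i3, ModuleCat.directLimitDiagram G f, c, hfp, ?_, rfl⟩
  refine ⟨IsColimit.ofIsoColimit (ModuleCat.directLimitIsColimit G f) ?_⟩
  refine Cocone.ext e.toModuleIso ?_
  intro j
  rfl

end Groth.Agent.Lib.Helper5.FPExt
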