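import Mathlib
import Groth.Agent.Lib.Helper5.FPExt.P2
import Groth.Agent.Lib.Helper5.FPExt.K3

set_option autoImplicit false
universe u
open CategoryTheory CategoryTheory.Limits Opposite CategoryTheory.Functor

namespace Groth.Agent.Lib.Helper5.FPExt

variable (A : Type u) [CommRing A]

theorem fpProp_le : fpProp A ≤ ObjectProperty.isFinitelyPresentable.{u} (ModuleCat.{u} A) := by
  intro M hM
  haveI : Module.FinitePresentation A M := hM
  exact isFinitelyPresentable_of_fp A M

theorem hasPres_fpProp : HasPres (fpProp A) := by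
  intro M
  obtain ⟨J, i1, i2, i3, D, c, hD, ⟨hc⟩, rfl⟩ := exists_presentation A M
  exact ⟨J, i1, i2, i3, ⟨{ diag := D, ι := c.ι, isColimit := hc, prop_diag_obj := hD }⟩⟩

end Groth.Agent.Lib.Helper5.FPExt
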