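import Mathlib
import Groth.Agent.Lib.Helper5.FPExt.M1

set_option autoImplicit false
universe u
open CategoryTheory CategoryTheory.Limits Opposite

namespace Groth.Agent.Lib.Helper5.FPExt

variable (A : Type u) [CommRing A]

attribute [local instance] Cardinal.fact_isRegular_aleph0

/-- A retract of a finitely presented module is finitely presented. -/
theorem finitePresentation_of_retract' {R : Type*} [CommRing R] {P N : Type*} [AddCommGroup P]
    [Module R P] [AddCommGroup N] [Module R N] [Module.FinitePresentation R P]
    (r : P →ₗ[R] N) (s : N →ₗ[R] P) (h : ∀ n, r (s n) = n) : Module.FinitePresentation R N := by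
  refine Module.finitePresentation_of_surjective r (fun n => ⟨s n, h n⟩) ?_
  have hker : LinearMap.ker r = LinearMap.range (LinearMap.id - s ∘ₗ r) := by
    ext y
    constructor
    · intro hy
      refine ⟨y, ?_⟩
      rw [LinearMap.mem_ker] at hy
      simp [hy]
    · rintro ⟨y, rfl⟩
      rw [LinearMap.mem_ker]
      simp [h]
  rw [hker, LinearMap.range_eq_map]
  exact Submodule.FG.map _ Module.Finite.fg_top

theorem fp_of_isFinitelyPresentable (M : ModuleCat.{u} A) [hM : IsFinitelyPresentable.{u} M] :
    Module.FinitePresentation A M := by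
  obtain ⟨J, i1, i2, i3, D, c, hD, ⟨hc⟩, rfl⟩ := exists_presentation A M
  obtain ⟨j, s, hs⟩ := IsFinitelyPresentable.exists_hom_of_isColimit hc (𝟙 c.pt)
  haveI := hD j
  exact finitePresentation_of_retract' (c.ι.app j).hom s.hom (fun n => congr($hs n))

theorem fpProp_eq : fpProp A = ObjectProperty.isFinitelyPresentable.{u} (ModuleCat.{u} A) := by
  ext M
  exact ⟨fun h => fpProp_le A M h, fun h => @fp_of_isFinitelyPresentable _ _ M h⟩

instance isClosedUnderColimitsOfShape_fpProp (J : Type) [SmallCategory J] [FinCategory J] :
    (fpProp A).IsClosedUnderColimitsOfShape J := by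
  rw [fpProp_eq, ObjectProperty.isFinitelyPresentable_eq_isCardinalPresentable]
  apply isClosedUnderColimitsOfShape_isCardinalPresentable
  rw [hasCardinalLT_aleph0_iff]
  infer_instance

end Groth.Agent.Lib.Helper5.FPExt
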