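import Mathlib

set_option autoImplicit false
universe u u₁ v₂ u₂
open CategoryTheory CategoryTheory.Limits Opposite CategoryTheory.Functor
open CategoryTheory.Limits.CoproductsFromFiniteFiltered

namespace Groth.Agent.Lib.Helper5.FPExt

variable {C : Type u₁} [Category.{u} C] {B : Type u₂} [Category.{v₂} B]

/-- a functor commuting with finite coproducts and filtered colimits commutes with coproducts -/
theorem preservesColimit_discrete_functor [HasFiniteCoproducts C] (F' : C ⥤ B)
    [PreservesFiniteCoproducts F'] [PreservesFilteredColimitsOfSize.{u, u} F']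
    {α : Type u} [HasColimitsOfShape (Finset (Discrete α)) C] (f : α → C) [HasCoproduct f] :
    PreservesColimit (Discrete.functor f) F' := by
  classical
  haveI : PreservesColimitsOfShape (Finset (Discrete α)) F' :=
    PreservesFilteredColimitsOfSize.preserves_filtered_colimits _
  have hfilt := isColimitOfPreserves F' (isColimitFiniteSubproductsCocone f)
  let G : Discrete α ⥤ C := Discrete.functor f
  have hfin : ∀ S : Finset (Discrete α),
      IsColimit (F'.mapCocone (Cofan.mk ((liftToFinsetObj G).obj S)
        (Sigma.ι fun x : S => G.obj x.1))) := fun S =>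
    isColimitOfPreserves F' (coproductIsCoproduct _)
  -- the inclusion of a finite subcoproduct
  have hι : ∀ (S : Finset (Discrete α)) (x : S),
      (Sigma.ι (fun x : S => G.obj x.1) x : G.obj x.1 ⟶ (liftToFinsetObj G).obj S) ≫
        (finiteSubcoproductsCocone f).ι.app S = Sigma.ι f x.1.as := by
    intro S x
    simp [finiteSubcoproductsCocone, G]
  have hmap : ∀ (S S' : Finset (Discrete α)) (h : S ⟶ S') (x : S),
      (Sigma.ι (fun x : S => G.obj x.1) x : G.obj x.1 ⟶ (liftToFinsetObj G).obj S) ≫
        (liftToFinsetObj G).map h =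
        (Sigma.ι (fun x : S' => G.obj x.1) ⟨x.1, h.down.down x.2⟩ :
          G.obj x.1 ⟶ (liftToFinsetObj G).obj S') := by
    intro S S' h x
    simp [liftToFinsetObj]
  -- the descended maps on finite subcoproducts
  have hd : ∀ (s : Cocone (G ⋙ F')) (S : Finset (Discrete α)),
      ∃ d : F'.obj ((liftToFinsetObj G).obj S) ⟶ s.pt,
        ∀ x : S, F'.map (Sigma.ι (fun x : S => G.obj x.1) x :
          G.obj x.1 ⟶ (liftToFinsetObj G).obj S) ≫ d = s.ι.app x.1 := by
    intro s S
    refine ⟨(hfin S).desc { pt := s.pt, ι := Discrete.natTrans fun x => s.ι.app x.as.1 }, ?_⟩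
    intro x
    exact (hfin S).fac { pt := s.pt, ι := Discrete.natTrans fun x => s.ι.app x.as.1 } ⟨x⟩
  have hext : ∀ (S : Finset (Discrete α)) {Z : B}
      (a b : F'.obj ((liftToFinsetObj G).obj S) ⟶ Z),
      (∀ x : S, F'.map (Sigma.ι (fun x : S => G.obj x.1) x :
          G.obj x.1 ⟶ (liftToFinsetObj G).obj S) ≫ a =
        F'.map (Sigma.ι (fun x : S => G.obj x.1) x :
          G.obj x.1 ⟶ (liftToFinsetObj G).obj S) ≫ b) → a = b := by
    intro S Z a b h
    apply (hfin S).hom_ext
    rintro ⟨x⟩
    exact h x
  have hnat : ∀ (s : Cocone (G ⋙ F')) (S S' : Finset (Discrete α)) (h : S ⟶ S')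
      (x : S), F'.map (Sigma.ι (fun x : S => G.obj x.1) x :
          G.obj x.1 ⟶ (liftToFinsetObj G).obj S) ≫
        F'.map ((liftToFinsetObj G).map h) ≫ (hd s S').choose =
      F'.map (Sigma.ι (fun x : S => G.obj x.1) x :
          G.obj x.1 ⟶ (liftToFinsetObj G).obj S) ≫ (hd s S).choose ≫ 𝟙 _ := by
    intro s S S' h x
    have e := congrArg (fun t => F'.map t ≫ (hd s S').choose) (hmap S S' h x)
    refine ((Category.assoc _ _ _).symm.trans
      ((congrArg (· ≫ (hd s S').choose) (F'.map_comp _ _).symm).trans e)).trans ?_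
    refine ((hd s S').choose_spec _).trans ?_
    exact ((congrArg (F'.map _ ≫ ·) (Category.comp_id _)).trans ((hd s S).choose_spec x)).symm
  apply preservesColimit_of_preserves_colimit_cocone (coproductIsCoproduct f)
  let sc : ∀ s : Cocone (G ⋙ F'), Cocone (liftToFinsetObj G ⋙ F') := fun s =>
    { pt := s.pt
      ι :=
        { app := fun S => (hd s S).choose
          naturality := fun S S' h => hext S _ _ (hnat s S S' h) } }
  refine
    { desc := fun s => hfilt.desc (sc s)
      fac := ?_
      uniq := ?_ }
  · intro s j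
    have h1 : F'.map ((finiteSubcoproductsCocone f).ι.app {j}) ≫ hfilt.desc (sc s) =
        (hd s {j}).choose := hfilt.fac (sc s) {j}
    have h2 := hι {j} ⟨j, by simp⟩
    have h3 := (hd s {j}).choose_spec ⟨j, by simp⟩
    have h4 := congrArg (fun t => F'.map t ≫ hfilt.desc (sc s)) h2
    refine h4.symm.trans ?_
    refine (congrArg (· ≫ hfilt.desc (sc s)) (F'.map_comp _ _)).trans ?_
    refine (Category.assoc _ _ _).trans ?_
    refine (congrArg (F'.map _ ≫ ·) h1).trans ?_
    exact h3
  · intro s m hm
    apply hfilt.hom_ext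
    intro S
    have h1 : F'.map ((finiteSubcoproductsCocone f).ι.app S) ≫ hfilt.desc (sc s) =
        (hd s S).choose := hfilt.fac (sc s) S
    refine Eq.trans ?_ h1.symm
    apply hext S
    intro x
    refine Eq.trans ?_ ((hd s S).choose_spec x).symm
    have h5 := congrArg (fun t => F'.map t ≫ m) (hι S x)
    refine (Category.assoc _ _ _).symm.trans ?_
    refine (congrArg (· ≫ m) (F'.map_comp _ _).symm).trans ?_
    exact h5.trans (hm x.1)

theorem preservesColimitsOfShape_discrete [HasFiniteCoproducts C] (F' : C ⥤ B)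
    [PreservesFiniteCoproducts F'] [PreservesFilteredColimitsOfSize.{u, u} F']
    (α : Type u) [HasColimitsOfShape (Finset (Discrete α)) C] [HasColimitsOfShape (Discrete α) C] :
    PreservesColimitsOfShape (Discrete α) F' :=
  ⟨fun {K} => by
    haveI : PreservesColimit (Discrete.functor (K.obj ∘ Discrete.mk)) F' :=
      preservesColimit_discrete_functor F' (K.obj ∘ Discrete.mk)
    exact preservesColimit_of_iso_diagram F' (Discrete.natIsoFunctor (F := K)).symm⟩

end Groth.Agent.Lib.Helper5.FPExt
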