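import Mathlib
import Groth.Agent.Lib.Helper5.FPExt.P3
import Groth.Agent.Lib.Helper5.FPExt.Add1
import Groth.Agent.Lib.Helper5.FPExt.Sum1
import Groth.Agent.Lib.Helper5.FPExt.Ker1

set_option autoImplicit false
universe u v' u'
open CategoryTheory CategoryTheory.Limits Opposite CategoryTheory.Functor

namespace Groth.Agent.Lib.Helper5.FPExt

variable (A : Type u) [CommRing A] {B : Type u'} [Category.{v'} B] [Preadditive B]
  [HasFiniteBiproducts B]

instance hasFiniteColimits_fp : HasFiniteColimits (fpProp A).FullSubcategory :=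
  ⟨fun _ _ _ => inferInstance⟩

theorem additive_restr_of_preservesFiniteColimits (F' : ModuleCat.{u} A ⥤ B)
    [PreservesFiniteColimits ((fpProp A).ι ⋙ F')] : ((fpProp A).ι ⋙ F').Additive := by
  haveI : HasBinaryBiproducts (fpProp A).FullSubcategory :=
    HasBinaryBiproducts.of_hasBinaryCoproducts
  haveI : HasZeroObject (fpProp A).FullSubcategory := hasZeroObject_of_hasInitial_object
  haveI : HasZeroObject B := hasZeroObject_of_hasFiniteBiproducts B
  haveI : PreservesZeroMorphisms ((fpProp A).ι ⋙ F') := inferInstance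
  haveI := preservesBinaryBiproducts_of_preservesBinaryCoproducts
    ((fpProp A).ι ⋙ F')
  exact Functor.additive_of_preservesBinaryBiproducts _

/-- preservation of cokernels of maps between finitely presented modules -/
theorem preservesColimit_parallelPair_fp (F' : ModuleCat.{u} A ⥤ B)
    [PreservesFiniteColimits ((fpProp A).ι ⋙ F')] {Q R : ModuleCat.{u} A}
    (hQ : fpProp A Q) (hR : fpProp A R) (g : Q ⟶ R) :
    PreservesColimit (parallelPair g 0) F' := by
  let g' : (⟨Q, hQ⟩ : (fpProp A).FullSubcategory) ⟶ ⟨R, hR⟩ := (fpProp A).homMk g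
  haveI : PreservesColimit (parallelPair g' 0 ⋙ (fpProp A).ι) F' :=
    preservesColimit_of_preserves_colimit_cocone
      (isColimitOfPreserves (fpProp A).ι (colimit.isColimit (parallelPair g' 0)))
      (isColimitOfPreserves ((fpProp A).ι ⋙ F') (colimit.isColimit (parallelPair g' 0)))
  haveI : PreservesColimit (parallelPair
      ((parallelPair g' 0 ⋙ (fpProp A).ι).map WalkingParallelPairHom.left)
      ((parallelPair g' 0 ⋙ (fpProp A).ι).map WalkingParallelPairHom.right)) F' :=
    preservesColimit_of_iso_diagram F' (diagramIsoParallelPair (parallelPair g' 0 ⋙ (fpProp A).ι))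
  exact this

end Groth.Agent.Lib.Helper5.FPExt
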