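import Mathlib
import Groth.Agent.Lib.Helper5.FPExt.M2
import Groth.Agent.Lib.Helper5.FPExt.Coh1

set_option autoImplicit false
universe u v' u'
open CategoryTheory CategoryTheory.Limits Opposite CategoryTheory.Functor

namespace Groth.Agent.Lib.Helper5.FPExt

variable (A : Type u) [CommRing A]

/-- over a coherent ring, finitely presented modules are closed under equalizers -/
theorem isClosedUnderLimitsOfShape_fpProp
    (hcoh : ∀ I : Ideal A, I.FG → Module.FinitePresentation A I) :
    (fpProp A).IsClosedUnderLimitsOfShape WalkingParallelPair where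
  limitsOfShape_le := by
    rintro X ⟨p⟩
    let a := p.diag.map WalkingParallelPairHom.left
    let b := p.diag.map WalkingParallelPairHom.right
    haveI : Module.FinitePresentation A (p.diag.obj WalkingParallelPair.zero) :=
      p.prop_diag_obj _
    haveI : Module.FinitePresentation A (p.diag.obj WalkingParallelPair.one) :=
      p.prop_diag_obj _
    have hK : IsLimit (Preadditive.forkOfKernelFork (ModuleCat.kernelCone (a - b))) :=
      Preadditive.isLimitForkOfKernelFork (ModuleCat.kernelIsLimit (a - b))
    let e : X ≅ (Preadditive.forkOfKernelFork (ModuleCat.kernelCone (a - b))).pt :=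
      IsLimit.conePointsIsoOfNatIso p.isLimit hK (diagramIsoParallelPair p.diag)
    haveI : Module.FinitePresentation A
        (Preadditive.forkOfKernelFork (ModuleCat.kernelCone (a - b))).pt :=
      fp_ker hcoh (a - b).hom
    exact Module.FinitePresentation.of_equiv e.symm.toLinearEquiv

variable {B : Type u'} [Category.{v'} B] [Preadditive B] [HasFiniteBiproducts B]

theorem additive_restr_of_preservesFiniteLimits (F' : ModuleCat.{u} A ⥤ B)
    [PreservesFiniteLimits ((fpProp A).ι ⋙ F')] : ((fpProp A).ι ⋙ F').Additive := by
  haveI : HasBinaryBiproducts (fpProp A).FullSubcategory :=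
    HasBinaryBiproducts.of_hasBinaryCoproducts
  haveI : HasZeroObject (fpProp A).FullSubcategory := hasZeroObject_of_hasInitial_object
  haveI : HasZeroObject B := hasZeroObject_of_hasFiniteBiproducts B
  haveI : PreservesZeroMorphisms ((fpProp A).ι ⋙ F') := inferInstance
  haveI := preservesBinaryBiproducts_of_preservesBinaryProducts ((fpProp A).ι ⋙ F')
  exact Functor.additive_of_preservesBinaryBiproducts _

/-- preservation of kernels of maps between finitely presented modules over a coherent ring -/
theorem preservesLimit_parallelPair_fp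
    (hcoh : ∀ I : Ideal A, I.FG → Module.FinitePresentation A I) (F' : ModuleCat.{u} A ⥤ B)
    [PreservesFiniteLimits ((fpProp A).ι ⋙ F')] {Q R : ModuleCat.{u} A}
    (hQ : fpProp A Q) (hR : fpProp A R) (g : Q ⟶ R) :
    PreservesLimit (parallelPair g 0) F' := by
  haveI := isClosedUnderLimitsOfShape_fpProp A hcoh
  let g' : (⟨Q, hQ⟩ : (fpProp A).FullSubcategory) ⟶ ⟨R, hR⟩ := (fpProp A).homMk g
  haveI : PreservesLimit (parallelPair g' 0 ⋙ (fpProp A).ι) F' :=
    preservesLimit_of_preserves_limit_cone
      (isLimitOfPreserves (fpProp A).ι (limit.isLimit (parallelPair g' 0)))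
      (isLimitOfPreserves ((fpProp A).ι ⋙ F') (limit.isLimit (parallelPair g' 0)))
  haveI : PreservesLimit (parallelPair
      ((parallelPair g' 0 ⋙ (fpProp A).ι).map WalkingParallelPairHom.left)
      ((parallelPair g' 0 ⋙ (fpProp A).ι).map WalkingParallelPairHom.right)) F' :=
    preservesLimit_of_iso_diagram F' (diagramIsoParallelPair (parallelPair g' 0 ⋙ (fpProp A).ι))
  exact this

end Groth.Agent.Lib.Helper5.FPExt
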